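import Groth.Agent.GrSm.EtaleSection
import Groth.Agent.MorLib.WeightFlat

/-! An étale slice of a smooth morphism through a point with separable residue extension. -/

set_option autoImplicit false
universe u

namespace Groth.Agent.EtaleSlice

open TensorProduct AlgebraicGeometry CategoryTheory IsLocalRing

theorem formallyUnramified_residueField {R : Type u} [CommRing R] (p : Ideal R) [p.IsPrime] :
    Algebra.FormallyUnramified R p.ResidueField :=
  haveI := Algebra.FormallyEtale.of_isLocalization (Rₘ := Localization.AtPrime p) p.primeCompl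
  Algebra.FormallyUnramified.comp R (Localization.AtPrime p) p.ResidueField

set_option maxHeartbeats 1000000 in
/-- Ring form: through a prime of a smooth algebra with separable residue extension passes an
étale quotient of a basic open. -/
theorem exists_etale_quotient {R A : Type u} [CommRing R] [CommRing A] [Algebra R A]
    [Algebra.Smooth R A] (P : Ideal A) [P.IsPrime] [Algebra.FormallyUnramified R P.ResidueField] :
    ∃ (h : A) (B : Type u) (_ : CommRing B) (_ : Algebra R B) (φ : Localization.Away h →ₐ[R] B)
      (Q : Ideal B), Algebra.Etale R B ∧ Function.Surjective φ ∧ Q.IsPrime ∧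
      (Q.comap φ).comap (algebraMap A (Localization.Away h)) = P := by
  classical
  let T := Localization.AtPrime P
  haveI : Algebra.EssFiniteType A T := Algebra.EssFiniteType.of_isLocalization _ P.primeCompl
  haveI : Algebra.EssFiniteType R T := Algebra.EssFiniteType.comp R A T
  haveI : Algebra.FormallySmooth A T := Algebra.FormallySmooth.of_isLocalization P.primeCompl
  haveI : Algebra.FormallySmooth R T := Algebra.FormallySmooth.comp R A T
  haveI : Module.FinitePresentation T (Ω[T⁄R]) := Module.finitePresentation_of_projective _ _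
  let v : P → Ω[T⁄R] := fun w => KaehlerDifferential.D R T (algebraMap A T w.1)
  have hspan : Submodule.span T (Set.range v) = ⊤ := by
    let K := P.ResidueField
    let N := Submodule.span T (Set.range v)
    have hmk : ∀ (t : T) (m : Ω[T⁄R]), TensorProduct.mk T K (Ω[T⁄R]) 1 (t • m) =
        algebraMap T K t ⊗ₜ[T] m := fun t m => by
      rw [TensorProduct.mk_apply, TensorProduct.tmul_smul, TensorProduct.smul_tmul',
        Algebra.smul_def, mul_one]
    refine (IsLocalRing.map_tensorProduct_mk_eq_top (M := Ω[T⁄R])).mp ?_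
    rw [eq_top_iff]
    intro z _
    have hsurj : Function.Surjective (algebraMap T K) := IsLocalRing.residue_surjective
    have h0 : KaehlerDifferential.mapBaseChange R T K z = 0 := Subsingleton.elim _ _
    obtain ⟨c, rfl⟩ :=
      (KaehlerDifferential.exact_kerCotangentToTensor_mapBaseChange R T K hsurj z).mp h0
    obtain ⟨⟨x, hx⟩, rfl⟩ := Ideal.toCotangent_surjective _ c
    rw [KaehlerDifferential.kerCotangentToTensor_toCotangent]
    obtain ⟨a, s, rfl⟩ := IsLocalization.exists_mk'_eq P.primeCompl x
    have hax : algebraMap A T a ∈ maximalIdeal T := by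
      have h1 : IsLocalization.mk' T a s ∈ maximalIdeal T := (residue_eq_zero_iff _).mp hx
      rw [← IsLocalization.mk'_spec T a s]
      exact Ideal.mul_mem_right _ _ h1
    have ha : a ∈ P := (IsLocalization.AtPrime.to_map_mem_maximal_iff T P a).mp hax
    have hu := IsLocalization.map_units T s
    have h2 : KaehlerDifferential.D R T (IsLocalization.mk' T a s) = (↑hu.unit⁻¹ : T) •
        (v ⟨a, ha⟩ - IsLocalization.mk' T a s • KaehlerDifferential.D R T (algebraMap A T s)) := by
      have h3 : KaehlerDifferential.D R T (algebraMap A T a) = _ :=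
        congrArg (KaehlerDifferential.D R T) (IsLocalization.mk'_spec T a s).symm
      rw [Derivation.leibniz] at h3
      show _ = (↑hu.unit⁻¹ : T) • (KaehlerDifferential.D R T (algebraMap A T a) - _)
      rw [h3, add_sub_cancel_left, smul_smul, IsUnit.val_inv_mul, one_smul]
    refine ⟨(↑hu.unit⁻¹ : T) • v ⟨a, ha⟩, N.smul_mem _ (Submodule.subset_span ⟨_, rfl⟩), ?_⟩
    rw [h2, hmk]
    have hz : algebraMap T K (IsLocalization.mk' T a s) = 0 := hx
    show _ = TensorProduct.mk T K (Ω[T⁄R]) 1 _
    rw [smul_sub, map_sub, hmk, smul_smul, hmk, map_mul, hz, mul_zero, TensorProduct.zero_tmul,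
      sub_zero]
  obtain ⟨κ, a, bT, hbT⟩ := Module.exists_basis_of_span_of_flat v hspan
  haveI : Finite κ := Module.Finite.finite_basis bT
  let C := MvPolynomial κ R
  let g : C →ₐ[R] A := MvPolynomial.aeval fun i => (a i).1
  letI : Algebra C A := g.toRingHom.toAlgebra
  haveI : IsScalarTower R C A := IsScalarTower.of_algebraMap_eq fun r => (g.commutes r).symm
  haveI : IsScalarTower R C T := IsScalarTower.of_algebraMap_eq fun r => by
    rw [IsScalarTower.algebraMap_apply C A T, ← IsScalarTower.algebraMap_apply R C A,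
      ← IsScalarTower.algebraMap_apply R A T]
  haveI : Algebra.IsEtaleAt C P :=
    GrSm.formallyEtale_of_basis (KaehlerDifferential.mvPolynomialBasis R κ) bT fun i => by
      rw [KaehlerDifferential.mvPolynomialBasis_apply, KaehlerDifferential.map_D, hbT,
        IsScalarTower.algebraMap_apply C A T]
      show KaehlerDifferential.D R T (algebraMap A T (g (MvPolynomial.X i))) = _
      rw [show g (MvPolynomial.X i) = (a i).1 from MvPolynomial.aeval_X _ i]
  haveI : Algebra.FinitePresentation C A := Algebra.FinitePresentation.of_restrict_scalars_finitePresentation R C A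
  obtain ⟨h, hh, het⟩ := Algebra.exists_etale_of_isEtaleAt (R := C) P
  haveI := het
  let A' := Localization.Away h
  let e : C →ₐ[R] R := MvPolynomial.aeval 0
  letI : Algebra C R := e.toRingHom.toAlgebra
  haveI : IsScalarTower R C R := IsScalarTower.of_algebraMap_eq fun r => (e.commutes r).symm
  let B := R ⊗[C] A'
  let K := P.ResidueField
  have hunit : IsUnit (algebraMap A K h) :=
    IsUnit.mk0 _ fun h0 => hh (Ideal.algebraMap_residueField_eq_zero.mp h0)
  let ψ : A' →+* K := IsLocalization.Away.lift h hunit
  have hψ : ∀ x, ψ (algebraMap A A' x) = algebraMap A K x := fun x => IsLocalization.Away.lift_eq h hunit x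
  have hψC : ∀ c : C, ψ (algebraMap C A' c) = algebraMap R K (e c) := by
    intro c
    rw [IsScalarTower.algebraMap_apply C A A', hψ]
    induction c using MvPolynomial.induction_on with
    | C r =>
      show algebraMap A K (g (MvPolynomial.C r)) = _
      rw [MvPolynomial.aeval_C, MvPolynomial.aeval_C, ← IsScalarTower.algebraMap_apply]
      rfl
    | add x y hx hy => rw [map_add, map_add, hx, hy, map_add, map_add]
    | mul_X x i hx =>
      rw [map_mul, map_mul]
      have : algebraMap A K (algebraMap C A (MvPolynomial.X i)) = 0 := by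
        show algebraMap A K (g (MvPolynomial.X i)) = 0
        rw [MvPolynomial.aeval_X]
        exact Ideal.algebraMap_residueField_eq_zero.mpr (a i).2
      rw [this, mul_zero, map_mul e, MvPolynomial.aeval_X, Pi.zero_apply, mul_zero, map_zero]
  letI : Algebra C K := ((algebraMap R K).comp (algebraMap C R)).toAlgebra
  haveI : IsScalarTower C C K := IsScalarTower.of_algebraMap_eq (fun _ => rfl)
  let χ : B →ₐ[C] K := Algebra.TensorProduct.lift (S := C)
    ({ algebraMap R K with commutes' := fun _ => rfl } : R →ₐ[C] K)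
    ({ ψ with commutes' := hψC } : A' →ₐ[C] K) fun _ _ => Commute.all _ _
  refine ⟨h, B, inferInstance, inferInstance,
    { (Algebra.TensorProduct.includeRight : A' →ₐ[C] B).toRingHom with
      commutes' := fun r => ?_ }, RingHom.ker χ.toRingHom, inferInstance,
    Algebra.TensorProduct.includeRight_surjective _ fun r => ⟨MvPolynomial.C r, e.commutes r⟩,
    RingHom.ker_isPrime _, ?_⟩
  · show (1 : R) ⊗ₜ[C] algebraMap R A' r = algebraMap R R r ⊗ₜ[C] (1 : A')
    rw [IsScalarTower.algebraMap_apply R C A', Algebra.algebraMap_eq_smul_one (A := A'),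
      ← TensorProduct.smul_tmul, ← Algebra.algebraMap_eq_smul_one, ← IsScalarTower.algebraMap_apply]
  · ext x
    rw [Ideal.mem_comap, Ideal.mem_comap, RingHom.mem_ker]
    show χ ((1 : R) ⊗ₜ[C] algebraMap A A' x) = 0 ↔ _
    rw [show χ ((1 : R) ⊗ₜ[C] algebraMap A A' x) = algebraMap R K 1 * ψ (algebraMap A A' x) from
      Algebra.TensorProduct.lift_tmul .., map_one, one_mul]
    show ψ (algebraMap A A' x) = 0 ↔ _
    rw [hψ, Ideal.algebraMap_residueField_eq_zero]

theorem fu_of_isIso {A B : CommRingCat.{u}} (e : A ⟶ B) [IsIso e] : e.hom.FormallyUnramified :=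
  .of_surjective (ConcreteCategory.bijective_of_isIso e).2

set_option maxHeartbeats 1000000 in
set_option backward.isDefEq.respectTransparency.types false in
/-- Through a point with separable residue extension of a smooth morphism passes an étale slice
meeting the fibre in this point only. -/
theorem exists_slice {X S : Scheme.{u}} (f : X ⟶ S) [Smooth f] (x : X)
    (hfu : (f.residueFieldMap x).hom.FormallyUnramified) :
    ∃ (Z : Scheme.{u}) (i : Z ⟶ X) (z : Z), IsImmersion i ∧ Etale (i ≫ f) ∧ i z = x ∧
      ∀ z' : ↑Z, f (i z') = f x → z' = z := by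
  obtain ⟨U, hU, V, hV, hx, e, hf⟩ := Smooth.exists_isStandardSmooth f x
  let φ := f.appLE U V e
  have heq : Spec.map φ ≫ hU.fromSpec = hV.fromSpec ≫ f := IsAffineOpen.SpecMap_appLE_fromSpec f hU hV e
  let q := hV.primeIdealOf ⟨x, hx⟩
  letI : Algebra Γ(S, U) Γ(X, V) := φ.hom.toAlgebra
  haveI : Algebra.IsStandardSmooth Γ(S, U) Γ(X, V) := hf
  haveI : Algebra.FormallyUnramified Γ(S, U) q.asIdeal.ResidueField := by
    have h0 : (f.residueFieldMap (hV.fromSpec q)).hom.FormallyUnramified := by
      rw [hV.fromSpec_primeIdealOf]; exact hfu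
    have h1 : ((hV.fromSpec ≫ f).residueFieldMap q).hom.FormallyUnramified := by
      rw [Scheme.residueFieldMap_comp]
      exact h0.comp (fu_of_isIso _)
    rw [← heq, Scheme.residueFieldMap_comp] at h1
    have h2 := (RingHom.FormallyUnramified.of_comp h1).comp
      (fu_of_isIso (Scheme.Spec.residueFieldIso Γ(X, V) q).hom)
    have h2' : ((Spec.map φ).residueFieldMap q ≫
        (Scheme.Spec.residueFieldIso Γ(X, V) q).hom).hom.FormallyUnramified := h2
    rw [Groth.Agent.MorLib.WT.residueFieldMap_SpecMap] at h2'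
    have h3 := RingHom.FormallyUnramified.of_comp h2'
    haveI := formallyUnramified_residueField (q.comap φ.hom).asIdeal
    have h4 := RingHom.FormallyUnramified.comp
      ((RingHom.formallyUnramified_algebraMap).mpr this) h3
    rw [← RingHom.formallyUnramified_algebraMap]
    convert h4 using 1
    ext r
    exact ((Ideal.ResidueField.map_algebraMap _ _ _ rfl r).trans
      (IsScalarTower.algebraMap_apply Γ(S, U) Γ(X, V) q.asIdeal.ResidueField r).symm).symm
  obtain ⟨h, B, _, _, ψ, Q, het, hsurj, hQ, hQP⟩ :=
    exists_etale_quotient (R := Γ(S, U)) q.asIdeal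
  let ψ' : CommRingCat.of (Localization.Away h) ⟶ CommRingCat.of B := CommRingCat.ofHom ψ.toRingHom
  let θ : Γ(X, V) ⟶ CommRingCat.of (Localization.Away h) :=
    CommRingCat.ofHom (algebraMap Γ(X, V) (Localization.Away h))
  haveI : IsClosedImmersion (Spec.map ψ') := IsClosedImmersion.spec_of_surjective _ hsurj
  haveI : IsOpenImmersion (Spec.map θ) := IsOpenImmersion.of_isLocalization h
  let i₀ : Spec (CommRingCat.of B) ⟶ X := Spec.map ψ' ≫ Spec.map θ ≫ hV.fromSpec
  let τ : Spec (CommRingCat.of B) ⟶ Spec Γ(S, U) :=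
    Spec.map (CommRingCat.ofHom (algebraMap Γ(S, U) B))
  haveI : Etale τ := by
    rw [HasRingHomProperty.Spec_iff (P := @Etale), CommRingCat.hom_ofHom, RingHom.etale_algebraMap]
    exact het
  have hτ : i₀ ≫ f = τ ≫ hU.fromSpec := by
    simp only [i₀, Category.assoc]
    rw [← heq, ← Spec.map_comp_assoc, ← Spec.map_comp_assoc]
    congr 2
    ext r
    exact ψ.commutes r
  let z₀ : Spec (CommRingCat.of B) := ⟨Q, hQ⟩
  have hz₀ : i₀ z₀ = x := by
    simp only [i₀, Scheme.Hom.comp_apply]
    rw [show Spec.map θ (Spec.map ψ' z₀) = q from PrimeSpectrum.ext hQP, hV.fromSpec_primeIdealOf]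
  have het' : Etale (i₀ ≫ f) := by rw [hτ]; infer_instance
  haveI := het'
  haveI := Groth.Agent.MorLib.WT.locallyQuasiFinite_of_etale (i₀ ≫ f)
  have hd := (i₀ ≫ f).isDiscrete_preimage_singleton (f x)
  have hmem : z₀ ∈ (i₀ ≫ f) ⁻¹' {f x} := by
    rw [Set.mem_preimage, Scheme.Hom.comp_apply, hz₀]; rfl
  obtain ⟨W, hW, hWz⟩ := isDiscrete_iff_forall_exists_isOpen.mp hd z₀ hmem
  let Z : (Spec (CommRingCat.of B)).Opens := ⟨W, hW⟩
  refine ⟨Z, Z.ι ≫ i₀, ⟨z₀, (hWz.ge rfl).1⟩, inferInstance, ?_, hz₀, fun z' hz' => ?_⟩
  · rw [Category.assoc]; infer_instance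
  · have h' : z'.1 ∈ W ∩ (i₀ ≫ f) ⁻¹' {f x} := ⟨z'.2, (Scheme.Hom.comp_apply i₀ f z'.1).trans hz'⟩
    rw [hWz] at h'
    exact Subtype.ext h'

end Groth.Agent.EtaleSlice
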